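import Groth.Agent.AlgSp.GorBC
import Groth.Agent.Wt.FibNoeth

/-!
# Gorenstein morphisms locally of finite type under arbitrary base change
-/

universe u

open CategoryTheory CategoryTheory.Limits AlgebraicGeometry IsLocalRing TensorProduct

set_option backward.isDefEq.respectTransparency.types false

namespace Groth.Agent.Gor26.BC

open Groth.Agent.AlgSp Groth.Agent.AlgSp.GorBC

/-- The residue field at a point of a scheme locally of finite type over a field. -/
theorem essFiniteType_of_point {K : CommRingCat.{u}} {X : Scheme.{u}} (p : X ⟶ Spec K) [LocallyOfFiniteType p] (x : X)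
    (φ : K ⟶ X.residueField x) (hφ : Spec.map φ = X.fromSpecResidueField x ≫ p) : φ.hom.EssFiniteType := by
  obtain ⟨W, hW, hx, -⟩ := exists_isAffineOpen_mem_and_subset (X := X) (TopologicalSpace.Opens.mem_top x)
  obtain ⟨ψ, hψ⟩ := Spec.map_surjective (hW.fromSpec ≫ p)
  have hft : ψ.hom.FiniteType := (HasRingHomProperty.Spec_iff (P := @LocallyOfFiniteType)).mp (hψ ▸ inferInstance)
  have he : φ = ψ ≫ X.presheaf.germ W x hx ≫ X.residue x := by
    apply Spec.map_injective
    rw [hφ, Spec.map_comp, Spec.map_comp, hψ, Category.assoc, Scheme.fromSpecResidueField, Category.assoc,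
      ← hW.fromSpecStalk_eq_fromSpecStalk hx, IsAffineOpen.fromSpecStalk, Category.assoc]
  rw [he]
  refine hft.essFiniteType.comp (RingHom.EssFiniteType.comp ?_
    (RingHom.FiniteType.of_surjective _ (X.residue_surjective x)).essFiniteType)
  letI := TopCat.Presheaf.algebra_section_stalk X.presheaf (⟨x, hx⟩ : W)
  haveI := hW.isLocalization_stalk ⟨x, hx⟩
  exact Algebra.EssFiniteType.of_isLocalization _ (hW.primeIdealOf ⟨x, hx⟩).asIdeal.primeCompl

/-- Gorensteinness at a point for `f` locally of finite type and any base change. -/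
theorem gorenstein_bc_fiberι_left {X S X' S' : Scheme.{u}} {f : X ⟶ S} {g : S' ⟶ S} {f' : X' ⟶ S'}
    {g' : X' ⟶ X} (hc : IsPullback g' f' f g) [LocallyOfFiniteType f] (s' : S') (y' : f'.fiber s')
    (hN : IsNoetherianRing (X.presheaf.stalk (g' (f'.fiberι s' y')) ⧸ GorCore.fibIdeal f (g' (f'.fiberι s' y'))))
    (hN' : IsNoetherianRing (X'.presheaf.stalk (f'.fiberι s' y') ⧸ GorCore.fibIdeal f' (f'.fiberι s' y'))) :
    LocCoh.IsGorensteinLocalRing (X.presheaf.stalk (g' (f'.fiberι s' y')) ⧸ GorCore.fibIdeal f (g' (f'.fiberι s' y'))) ↔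
      LocCoh.IsGorensteinLocalRing (X'.presheaf.stalk (f'.fiberι s' y') ⧸ GorCore.fibIdeal f' (f'.fiberι s' y')) := by
  let k := Spec.map (g.residueFieldMap s')
  have hk : k ≫ S.fromSpecResidueField (g s') = S'.fromSpecResidueField s' ≫ g :=
    Scheme.Hom.SpecMap_residueFieldMap_fromSpecResidueField g s'
  let h : f'.fiber s' ⟶ f.fiber (g s') :=
    pullback.lift (f'.fiberι s' ≫ g') (f'.fiberToSpecResidueField s' ≫ k) (by
      rw [Category.assoc, hc.w, ← Category.assoc, f'.fiber_fac, Category.assoc, Category.assoc, hk])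
  have hfst : h ≫ f.fiberι (g s') = f'.fiberι s' ≫ g' := pullback.lift_fst _ _ _
  have hsnd : h ≫ f.fiberToSpecResidueField (g s') = f'.fiberToSpecResidueField s' ≫ k :=
    pullback.lift_snd _ _ _
  have h1 : IsPullback (f'.fiberToSpecResidueField s') (f'.fiberι s' ≫ g')
      (k ≫ S.fromSpecResidueField (g s')) f := by
    rw [hk]
    exact ((IsPullback.of_hasPullback f' (S'.fromSpecResidueField s')).paste_horiz hc).flip
  have h2 : IsPullback (f'.fiberToSpecResidueField s') h k (f.fiberToSpecResidueField (g s')) := by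
    refine IsPullback.of_bot ?_ hsnd.symm (IsPullback.of_hasPullback f (S.fromSpecResidueField (g s'))).flip
    exact hfst.symm ▸ h1
  have : Flat k := (Groth.Agent.AlgSp.field_hom_props k).1
  have : Flat h := MorphismProperty.of_isPullback (P := @Flat) h2 ‹Flat k›
  let y : f.fiber (g s') := h y'
  have hy : f.fiberι (g s') y = g' (f'.fiberι s' y') := by
    rw [← Scheme.Hom.comp_apply, ← Scheme.Hom.comp_apply, hfst]
  -- the closed fibre
  have hF : LocCoh.IsGorensteinLocalRing ((h.fiber y).presheaf.stalk (h.asFiber y')) := by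
    let ι := (f.fiber (g s')).fromSpecResidueField y ≫ f.fiberToSpecResidueField (g s')
    obtain ⟨φ, hφ⟩ := Spec.map_surjective ι
    have sqF := (IsPullback.of_hasPullback h ((f.fiber (g s')).fromSpecResidueField y)).flip.paste_vert h2.flip
    refine gorenstein_field_pullback (L := S'.residueField s') (g.residueFieldMap s').hom φ.hom ?_
      (h.fiberι y ≫ f'.fiberToSpecResidueField s') (h.fiberToSpecResidueField y)
      (by
        change IsPullback _ _ (Spec.map (g.residueFieldMap s')) (Spec.map φ)
        rw [hφ]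
        exact sqF.flip) _
    have hι : LocallyOfFiniteType (f.fiberToSpecResidueField (g s')) :=
      MorphismProperty.of_isPullback (IsPullback.of_hasPullback f (S.fromSpecResidueField (g s'))) ‹LocallyOfFiniteType f›
    exact essFiniteType_of_point (f.fiberToSpecResidueField (g s')) y φ hφ
  rw [← hy] at hN ⊢
  rw [← GorFibre.gorenstein_fibre_stalk_iff f (g s') y, ← GorFibre.gorenstein_fibre_stalk_iff f' s' y']
  have eq1 := (Ideal.quotEquivOfEq (Groth.Agent.FlatMor.FibreStalk.ker_stalkMap_fiberι f (g s') y).symm).trans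
    (RingHom.quotientKerEquivOfSurjective ((f.fiberι (g s')).stalkMap_surjective y))
  have eq2 := (Ideal.quotEquivOfEq (Groth.Agent.FlatMor.FibreStalk.ker_stalkMap_fiberι f' s' y').symm).trans
    (RingHom.quotientKerEquivOfSurjective ((f'.fiberι s').stalkMap_surjective y'))
  have : IsNoetherianRing ((f.fiber (g s')).presheaf.stalk y) := isNoetherianRing_of_ringEquiv _ eq1
  have : IsNoetherianRing ((f'.fiber s').presheaf.stalk y') := isNoetherianRing_of_ringEquiv _ eq2
  obtain ⟨e3⟩ := Groth.Agent.FlatMor.FibreStalk.exists_fibre_stalk_equiv h y'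
  have hF' : LocCoh.IsGorensteinLocalRing ((f'.fiber s').presheaf.stalk y' ⧸ GorCore.fibIdeal h y') :=
    (Groth.Agent.Gor.FlatLocal.gorenstein_iff_of_ringEquiv e3).2 hF
  let _ := (h.stalkMap y').hom.toAlgebra
  have : Module.Flat ((f.fiber (g s')).presheaf.stalk y) ((f'.fiber s').presheaf.stalk y') := Flat.stalkMap h y'
  have : IsLocalHom (algebraMap ((f.fiber (g s')).presheaf.stalk y) ((f'.fiber s').presheaf.stalk y')) :=
    inferInstanceAs (IsLocalHom (h.stalkMap y').hom)
  rw [Groth.Agent.Gor.FlatLocal.gorenstein_flat_local_iff ((f.fiber (g s')).presheaf.stalk y)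
    ((f'.fiber s').presheaf.stalk y')]
  exact ⟨fun H => ⟨H, hF'⟩, fun H => H.1⟩


end Groth.Agent.Gor26.BC
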